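import Groth.Agent.Lib.QDim18.Supp
import Mathlib.Topology.KrullDimension

/-!
# Cohomology of uniquely divisible etale sheaves vanishes above the dimension
-/

set_option autoImplicit false
set_option backward.isDefEq.respectTransparency false
set_option backward.isDefEq.respectTransparency.types false
set_option linter.style.haveILetI false
set_option linter.all false

universe u

open CategoryTheory CategoryTheory.Limits CategoryTheory.Abelian AlgebraicGeometry Opposite
open GrothLib.EtSite GrothLib.EtColim GrothLib.EtTrace21 GrothLib.EtLimit GrothLib.SheafCoh GrothLib.GalCd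

noncomputable section

namespace GrothLib.QDim18

/-- Uniquely divisible objects. -/
def UDiv {C : Type*} [Category C] [Preadditive C] (A : C) : Prop :=
  ∀ m : ℕ, 0 < m → IsIso (m • 𝟙 A)

theorem UDiv.map {C D : Type*} [Category C] [Category D] [Preadditive C] [Preadditive D] (G : C ⥤ D) [G.Additive]
    {A : C} (h : UDiv A) : UDiv (G.obj A) := fun m hm => by
  haveI := h m hm
  have e : G.map (m • 𝟙 A) = m • 𝟙 (G.obj A) := by simp [Functor.map_nsmul]
  exact e ▸ inferInstance

theorem UDiv.kernel {C : Type*} [Category C] [Abelian C] {A B : C} (f : A ⟶ B) (hA : UDiv A) (hB : UDiv B) :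
    UDiv (Limits.kernel f) := fun m hm => by
  haveI := hA m hm
  haveI := hB m hm
  have w : f ≫ (m • 𝟙 B) = (m • 𝟙 A) ≫ f := by simp
  have e : (kernel.mapIso f f (asIso (m • 𝟙 A)) (asIso (m • 𝟙 B)) w).hom = m • 𝟙 _ := by
    apply equalizer.hom_ext
    simp
  exact e ▸ inferInstance

theorem UDiv.cokernel {C : Type*} [Category C] [Abelian C] {A B : C} (f : A ⟶ B) (hA : UDiv A) (hB : UDiv B) :
    UDiv (Limits.cokernel f) := fun m hm => by
  haveI := hA m hm
  haveI := hB m hm
  have w : f ≫ (m • 𝟙 B) = (m • 𝟙 A) ≫ f := by simp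
  have e : (cokernel.mapIso f f (asIso (m • 𝟙 A)) (asIso (m • 𝟙 B)) w).hom = m • 𝟙 _ := by
    apply coequalizer.hom_ext
    simp
  exact e ▸ inferInstance

/-- A closed set without maximal points has smaller dimension. -/
theorem krullDim_lt {X Y : Type u} [TopologicalSpace X] [TopologicalSpace Y] [QuasiSober X] [T0Space X]
    (i : Y → X) (hi : Topology.IsClosedEmbedding i)
    (hthin : ∀ x ∈ Set.range i, ∃ y, y ⤳ x ∧ y ≠ x) (n : ℕ) (h : topologicalKrullDim X < (n + 1 : ℕ)) :
    topologicalKrullDim Y < n := by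
  unfold topologicalKrullDim at h ⊢
  refine Order.krullDim_lt_coe_iff.2 fun l => ?_
  rw [Order.krullDim_lt_coe_iff] at h
  let l' := l.map (TopologicalSpace.IrreducibleCloseds.map i hi.continuous)
    (TopologicalSpace.IrreducibleCloseds.map_strictMono_of_isInducing hi.isInducing)
  obtain ⟨a, ha⟩ := QuasiSober.sober l'.last.isIrreducible l'.last.isClosed
  have har : a ∈ Set.range i := by
    have h1 : (l'.last : Set X) = closure (i '' (l.last : Set Y)) := rfl
    have h2 : a ∈ closure (i '' (l.last : Set Y)) := h1 ▸ ha.mem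
    exact (closure_minimal (Set.image_subset_range _ _) hi.isClosed_range) h2
  obtain ⟨y, hy, hne⟩ := hthin a har
  let B : TopologicalSpace.IrreducibleCloseds X := ⟨closure {y}, isIrreducible_singleton.closure, isClosed_closure⟩
  have hlt : l'.last < B := by
    refine lt_of_le_of_ne ?_ fun e => hne ?_
    · change (l'.last : Set X) ⊆ closure {y}
      rw [← ha.def]
      exact specializes_iff_closure_subset.1 hy
    · have h1 : (l'.last : Set X) = closure {y} := congrArg (fun s : TopologicalSpace.IrreducibleCloseds X => (s : Set X)) e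
      exact IsGenericPoint.eq (S := closure ({y} : Set X)) rfl (h1 ▸ ha)
  have := h (l'.snoc B hlt)
  change l.length + 1 < n + 1 at this
  omega

theorem isEmpty_of_dim_lt_zero {X : Type u} [TopologicalSpace X] (h : topologicalKrullDim X < (0 : ℕ)) : IsEmpty X := by
  refine ⟨fun x => ?_⟩
  have := Order.krullDim_lt_coe_iff.1 h
    (RelSeries.singleton _ (⟨closure {x}, isIrreducible_singleton.closure, isClosed_closure⟩ :
      TopologicalSpace.IrreducibleCloseds X))
  simp at this

theorem isZero_of_isEmpty {X : Scheme.{u}} [IsEmpty X] (F : EtCoh.Ab X) : IsZero F := by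
  rw [IsZero.iff_id_eq_zero]
  ext U s
  exact GrothLib.EtSite.section_eq_zero_of_germs _ U.unop _ fun Ω _ _ ξ t =>
    (IsEmpty.false (ξ.base (default : Spec (CommRingCat.of Ω)))).elim

theorem H_push_point_eq_zero {X : Scheme.{u}} [AlgebraicGeometry.IsNoetherian X] (x : X)
    (F : EtCoh.Ab X) (hF : UDiv F) (q : ℕ)
    (b : EtCoh.H X ((EtCoh.push (X.fromSpecResidueField x)).obj ((EtCoh.pull (X.fromSpecResidueField x)).obj F)) (q + 1)) :
    b = 0 := by
  let f := X.fromSpecResidueField x
  obtain ⟨n, hn, hn0⟩ := isOfFinAddOrder_iff_nsmul_eq_zero.1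
    (GrothLib.EtTrace21.isOfFinAddOrder_H_push (k := (X.residueField x : Type u)) f q _ b)
  haveI : PreservesFiniteLimits (EtCoh.push f) :=
    ((EtCoh.pullPushAdj f).rightAdjoint_preservesLimits : PreservesLimitsOfSize.{0, 0} _).preservesFiniteLimits
  haveI : (EtCoh.push f).Additive := Functor.additive_of_preserves_binary_products _
  haveI := GrothLib.EtDer.pullFL f
  haveI : (EtCoh.pull f).Additive := Functor.additive_of_preserves_binary_products _
  let P := (EtCoh.push f).obj ((EtCoh.pull f).obj F)
  haveI : IsIso (n • 𝟙 P) := (hF.map (EtCoh.pull f)).map (EtCoh.push f) n hn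
  refine (GrothLib.EtDer.bijective_comp_mk₀ (asIso (n • 𝟙 P)) (q + 1)).1 ?_
  change Ext.comp b (Ext.mk₀ (n • 𝟙 P)) (add_zero (q + 1)) = Ext.comp 0 _ _
  rw [comp_nsmul_id, hn0, Ext.zero_comp]

/-- Vanishing of cohomology of uniquely divisible sheaves above the dimension. -/
theorem vanish : ∀ (n : ℕ) (X : Scheme.{u}) [AlgebraicGeometry.IsNoetherian X],
    topologicalKrullDim X < (n : ℕ) → ∀ (F : EtCoh.Ab X), UDiv F → ∀ (q : ℕ), n ≤ q →
      ∀ a : EtCoh.H X F q, a = 0 := by
  intro n
  induction n with
  | zero =>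
    intro X _ hd F _ q _ a
    haveI := isEmpty_of_dim_lt_zero hd
    rw [← Ext.comp_mk₀_id a, (isZero_of_isEmpty F).eq_of_src (𝟙 F) 0, Ext.mk₀_zero, Ext.comp_zero]
  | succ n ih =>
    intro X _ hd
    classical
    -- sheaves vanishing at the maximal points
    have hsupp : ∀ (Q : EtCoh.Ab X), UDiv Q →
        (∀ (Ω : Type u) [Field Ω] [IsSepClosed Ω] (ξ : Spec (CommRingCat.of Ω) ⟶ X),
          (∀ y, y ⤳ ξ.base (default : Spec (CommRingCat.of Ω)) → y = ξ.base (default : Spec (CommRingCat.of Ω))) →
            IsZero ((EtCoh.stalk ξ).obj Q)) →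
        ∀ (q : ℕ), n ≤ q → ∀ a : EtCoh.H X Q q, a = 0 := by
      intro Q hQd hQ q hq a
      haveI := isIso_desc hQ
      let c := colimit.desc (diag Q) (cocone Q)
      obtain ⟨Z, y, hy⟩ := (gen_and_kill (diag Q) q).1 (Ext.comp a (Ext.mk₀ (inv c)) (add_zero q))
      suffices hy0 : y = 0 by
        rw [hy0, Ext.zero_comp] at hy
        refine (GrothLib.EtDer.bijective_comp_mk₀ (asIso (inv c)) q).1 (hy.symm.trans ?_)
        exact (Ext.zero_comp _ _ _ _ (add_zero q)).symm
      let I := Scheme.IdealSheafData.vanishingIdeal Z.down.1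
      let i : I.subscheme ⟶ X := I.subschemeι
      have hrange : Set.range i.base = (Z.down.1 : Set X) := by
        rw [Scheme.IdealSheafData.range_subschemeι]
        exact Scheme.IdealSheafData.coe_support_vanishingIdeal _
      haveI : IsLocallyNoetherian I.subscheme := LocallyOfFiniteType.isLocallyNoetherian i
      haveI : CompactSpace I.subscheme := QuasiCompact.compactSpace_of_compactSpace i
      haveI : AlgebraicGeometry.IsNoetherian I.subscheme := {}
      have hdim : topologicalKrullDim I.subscheme < (n : ℕ) :=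
        krullDim_lt i.base i.isClosedEmbedding (fun x hx => Z.down.2 x (hrange ▸ hx : x ∈ (Z.down.1 : Set X))) n hd
      haveI := GrothLib.EtDer.pullFL i
      haveI : (EtCoh.pull i).Additive := Functor.additive_of_preserves_binary_products _
      have hvan : ∀ V : X.Etale, Disjoint (Set.range V.hom.base) (Set.range i.base) →
          Subsingleton (EtCoh.sect (part Q Z.down) V) := by
        intro V hV
        refine ⟨fun a b => injective_app (kernel.ι (EtDual.unitApp (compl Z.down).ι Q)) V ?_⟩
        refine sub_eq_zero.1 (GrothLib.EtSite.section_eq_zero_of_germs _ _ _ fun Ω _ _ ξ t => ?_)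
        rw [← map_sub]
        refine (stalk_map_germ ξ (kernel.ι (EtDual.unitApp (compl Z.down).ι Q)) t (a - b)).symm.trans ?_
        rw [GrothLib.EtSupp19.stalk_map_eq_zero (compl Z.down).ι _
          ((GrothLib.EtSupp19.pull_map_eq_zero_iff _ _).2 (kernel.condition _)) ξ (by
            rw [Scheme.Opens.range_ι]
            intro hc
            have e : t.left ≫ V.hom = ξ := Over.w t
            refine Set.disjoint_left.1 hV ⟨t.left.base (default : Spec (CommRingCat.of Ω)), rfl⟩ ?_
            rw [hrange]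
            have e2 : V.hom.base (t.left.base (default : Spec (CommRingCat.of Ω))) = ξ.base default :=
              congrArg (fun r => r.base (default : Spec (CommRingCat.of Ω))) e
            exact e2 ▸ hc)]
        rfl
      haveI : IsIso ((EtCoh.pullPushAdj i).unit.app (part Q Z.down)) :=
        GrothLib.EtSite.isIso_unit_of_vanish i _ hvan
      let j := (compl Z.down).ι
      haveI := GrothLib.EtDer.pullFL j
      haveI : (EtCoh.pull j).Additive := Functor.additive_of_preserves_binary_products _
      haveI : PreservesFiniteLimits (EtCoh.push j) :=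
        ((EtCoh.pullPushAdj j).rightAdjoint_preservesLimits : PreservesLimitsOfSize.{0, 0} _).preservesFiniteLimits
      haveI : (EtCoh.push j).Additive := Functor.additive_of_preserves_binary_products _
      have hP : UDiv (part Q Z.down) :=
        UDiv.kernel (EtDual.unitApp j Q) hQd ((hQd.map (EtCoh.pull j)).map (EtCoh.push j))
      let u := (EtCoh.pullPushAdj i).unit.app (part Q Z.down)
      have h0 : Ext.comp y (Ext.mk₀ u) (add_zero q) = 0 := by
        refine (Groth.Agent.S14451.result i _
          (fun r hr => GrothLib.EtSite.isZero_Rpush_of_integral i _ r hr) q).1 ?_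
        exact (ih I.subscheme hdim _ (hP.map (EtCoh.pull i)) q hq _).trans
          (ih I.subscheme hdim _ (hP.map (EtCoh.pull i)) q hq _).symm
      refine (GrothLib.EtDer.bijective_comp_mk₀ (asIso u) q).1 (h0.trans ?_)
      exact (Ext.zero_comp _ _ _ _ (add_zero q)).symm
    -- the comparison with the maximal points
    intro F hF q hq a
    obtain ⟨q, rfl⟩ : ∃ r, q = r + 1 := ⟨q - 1, by omega⟩
    let G : MaxPts X → EtCoh.Ab X := fun x =>
      (EtCoh.push (X.fromSpecResidueField x.1)).obj ((EtCoh.pull (X.fromSpecResidueField x.1)).obj F)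
    haveI : Fintype (MaxPts X) := Fintype.ofFinite _
    let φ : F ⟶ ⨁ G := biproduct.lift fun x => (EtCoh.pullPushAdj (X.fromSpecResidueField x.1)).unit.app F
    have htot : ∑ j, biproduct.π G j ≫ biproduct.ι G j = 𝟙 (⨁ G) := IsBilimit.total (biproduct.isBilimit G)
    have hGd : UDiv (⨁ G) := by
      intro m hm
      haveI : ∀ x, IsIso (m • 𝟙 (G x)) := fun x => by
        let f := X.fromSpecResidueField x.1
        haveI : PreservesFiniteLimits (EtCoh.push f) :=
          ((EtCoh.pullPushAdj f).rightAdjoint_preservesLimits : PreservesLimitsOfSize.{0, 0} _).preservesFiniteLimits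
        haveI : (EtCoh.push f).Additive := Functor.additive_of_preserves_binary_products _
        haveI := GrothLib.EtDer.pullFL f
        haveI : (EtCoh.pull f).Additive := Functor.additive_of_preserves_binary_products _
        exact (hF.map (EtCoh.pull f)).map (EtCoh.push f) m hm
      have e : (biproduct.mapIso fun x => asIso (m • 𝟙 (G x))).hom = m • 𝟙 _ := by
        apply biproduct.hom_ext
        intro j
        simp
      exact e ▸ inferInstance
    have hiso : ∀ (Ω : Type u) [Field Ω] [IsSepClosed Ω] (ξ : Spec (CommRingCat.of Ω) ⟶ X),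
        (∀ y, y ⤳ ξ.base (default : Spec (CommRingCat.of Ω)) → y = ξ.base (default : Spec (CommRingCat.of Ω))) →
          IsIso ((EtCoh.stalk ξ).map φ) := by
      intro Ω _ _ ξ hnc
      let i₀ : MaxPts X := ⟨ξ.base (default : Spec (CommRingCat.of Ω)), hnc⟩
      have hzero : ∀ i : MaxPts X, i ≠ i₀ → IsZero ((EtCoh.stalk ξ).obj (G i)) := fun i hi =>
        isZero_stalk_push_of_not_specializes i.1 ξ (fun hs => hi (Subtype.ext (i₀.2 _ hs))) _
      haveI : IsIso ((EtCoh.stalk ξ).map (biproduct.π G i₀)) := by
        refine ⟨(EtCoh.stalk ξ).map (biproduct.ι G i₀), ?_, ?_⟩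
        · rw [← Functor.map_comp, ← CategoryTheory.Functor.map_id, ← htot, Functor.map_sum, Finset.sum_eq_single i₀]
          · intro i _ hi
            rw [Functor.map_comp, (hzero i hi).eq_of_tgt ((EtCoh.stalk ξ).map (biproduct.π G i)) 0, zero_comp]
          · exact fun h => absurd (Finset.mem_univ _) h
        · rw [← Functor.map_comp, biproduct.ι_π_self, CategoryTheory.Functor.map_id]
      let f := X.fromSpecResidueField i₀.1
      obtain ⟨ζ, hζ⟩ : ∃ ζ, ζ ≫ f = ξ := by
        obtain ⟨⟨y, ψ⟩, rfl⟩ := (Scheme.SpecToEquivOfField Ω X).symm.surjective ξ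
        have hy : i₀.1 = y := Scheme.fromSpecResidueField_apply y _
        exact ⟨Spec.map ((X.residueFieldCongr hy).hom ≫ ψ) , by
          simp only [f, Spec.map_comp, Category.assoc, Scheme.residueFieldCongr_fromSpecResidueField]
          rfl⟩
      haveI : IsIso ((EtCoh.stalk ξ).map ((EtCoh.pullPushAdj f).unit.app F)) := by
        rw [← hζ]
        haveI := GrothLib.CdBr2.isIso_counit_maxPt i₀.1 i₀.2 ((EtCoh.pull f).obj F)
        haveI : IsIso (𝟙 ((EtCoh.pull f).obj F)) := IsIso.id _
        haveI : IsIso ((EtCoh.pull f).map ((EtCoh.pullPushAdj f).unit.app F)) :=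
          IsIso.of_isIso_fac_right ((EtCoh.pullPushAdj f).left_triangle_components F)
        exact (NatIso.isIso_map_iff (pullStalkIso ζ f) _).1
          (inferInstanceAs (IsIso ((EtCoh.stalk ζ).map ((EtCoh.pull f).map ((EtCoh.pullPushAdj f).unit.app F)))))
      have e : (EtCoh.stalk ξ).map φ ≫ (EtCoh.stalk ξ).map (biproduct.π G i₀) =
          (EtCoh.stalk ξ).map ((EtCoh.pullPushAdj f).unit.app F) := by
        rw [← Functor.map_comp, biproduct.lift_π]
      exact IsIso.of_isIso_fac_right e
    let K := ShortComplex.mk (kernel.ι φ) (Abelian.factorThruImage φ) (by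
      rw [← cancel_mono (Abelian.image.ι φ), Category.assoc, Abelian.image.fac, kernel.condition, zero_comp])
    have hK : K.ShortExact := by
      refine { exact := K.exact_of_f_is_kernel ?_ }
      exact isKernelOfComp (Abelian.image.ι φ) φ (kernelIsKernel φ) K.zero (Abelian.image.fac φ)
    let C := ShortComplex.mk (Abelian.image.ι φ) (cokernel.π φ) (kernel.condition _)
    have hC : C.ShortExact := { exact := C.exact_of_f_is_kernel (kernelIsKernel _) }
    have hQ1 : ∀ (Ω : Type u) [Field Ω] [IsSepClosed Ω] (ξ : Spec (CommRingCat.of Ω) ⟶ X),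
        (∀ y, y ⤳ ξ.base (default : Spec (CommRingCat.of Ω)) → y = ξ.base (default : Spec (CommRingCat.of Ω))) →
          IsZero ((EtCoh.stalk ξ).obj C.X₃) := by
      intro Ω _ _ ξ hnc
      haveI := hiso Ω ξ hnc
      refine IsZero.of_epi_eq_zero ((EtCoh.stalk ξ).map (cokernel.π φ)) ?_
      rw [← cancel_epi ((EtCoh.stalk ξ).map φ), ← Functor.map_comp, cokernel.condition, Functor.map_zero, comp_zero]
    have hQ2 : ∀ (Ω : Type u) [Field Ω] [IsSepClosed Ω] (ξ : Spec (CommRingCat.of Ω) ⟶ X),
        (∀ y, y ⤳ ξ.base (default : Spec (CommRingCat.of Ω)) → y = ξ.base (default : Spec (CommRingCat.of Ω))) →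
          IsZero ((EtCoh.stalk ξ).obj K.X₁) := by
      intro Ω _ _ ξ hnc
      haveI := hiso Ω ξ hnc
      refine IsZero.of_mono_eq_zero ((EtCoh.stalk ξ).map (kernel.ι φ)) ?_
      rw [← cancel_mono ((EtCoh.stalk ξ).map φ), ← Functor.map_comp, kernel.condition, Functor.map_zero, zero_comp]
    have hP : ∀ b : EtCoh.H X (⨁ G) (q + 1), b = 0 := fun b => by
      have e : b = ∑ i, Ext.comp b (Ext.mk₀ (biproduct.π G i ≫ biproduct.ι G i)) (add_zero (q + 1)) := by
        rw [← Ext.comp_sum, ← Ext.mk₀_sum, htot, Ext.comp_mk₀_id]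
      rw [e]
      refine Finset.sum_eq_zero fun i _ => ?_
      have h := H_push_point_eq_zero i.1 F hF q (Ext.comp b (Ext.mk₀ (biproduct.π G i)) (add_zero (q + 1)))
      rw [← Ext.mk₀_comp_mk₀, ← Ext.comp_assoc_of_third_deg_zero]
      rw [show Ext.comp b (Ext.mk₀ (biproduct.π G i)) (add_zero (q + 1)) = 0 from h, Ext.zero_comp]
    have h1 : Ext.comp a (Ext.mk₀ K.g) (add_zero (q + 1)) = 0 := by
      obtain ⟨w, hw⟩ := Ext.covariant_sequence_exact₁ _ hC (Ext.comp a (Ext.mk₀ K.g) (add_zero (q + 1))) (hP _)
        (rfl : q + 1 = q + 1)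
      rw [← hw, hsupp _ (UDiv.cokernel φ hF hGd) hQ1 q (by omega) w, Ext.zero_comp]
    obtain ⟨z, rfl⟩ := Ext.covariant_sequence_exact₂ _ hK a h1
    rw [hsupp _ (UDiv.kernel φ hF hGd) hQ2 (q + 1) (by omega) z, Ext.zero_comp]

end GrothLib.QDim18
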