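import Groth.Agent.Lib.GalCd.GmMax
import Groth.Agent.Lib.CdBr2.MaxPt
import Groth.Agent.Lib.EtTrace21.PointPush

/-!
# A sheaf vanishing at the maximal points is the union of its parts with small support
-/

set_option autoImplicit false
set_option backward.isDefEq.respectTransparency false
set_option backward.isDefEq.respectTransparency.types false
set_option linter.style.haveILetI false
set_option linter.all false

universe u

open CategoryTheory CategoryTheory.Limits CategoryTheory.Abelian AlgebraicGeometry Opposite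
open GrothLib.EtSite GrothLib.EtColim GrothLib.EtTrace21 GrothLib.EtLimit GrothLib.SheafCoh GrothLib.GalCd

noncomputable section

namespace GrothLib.QDim18

variable {X : Scheme.{u}}

/-- Closed sets without maximal points. -/
abbrev Thin (X : Scheme.{u}) : Type u :=
  {Z : TopologicalSpace.Closeds X // ∀ x ∈ Z, ∃ y, y ⤳ x ∧ y ≠ x}

theorem thin_sup (Z Z' : Thin X) : ∀ x ∈ Z.1 ⊔ Z'.1, ∃ y, y ⤳ x ∧ y ≠ x := by
  intro x hx
  exact (show x ∈ Z.1 ∨ x ∈ Z'.1 from hx).elim (Z.2 x) (Z'.2 x)

instance : Nonempty (Thin X) := ⟨⟨⊥, fun x hx => absurd hx (fun h => h)⟩⟩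

instance : SemilatticeSup (Thin X) := Subtype.semilatticeSup fun {x y} hx hy => thin_sup ⟨x, hx⟩ ⟨y, hy⟩

/-- The open complement. -/
def compl (Z : Thin X) : X.Opens :=
  ⟨(Z.1 : Set X)ᶜ, Z.1.isClosed.isOpen_compl⟩

variable (Q : EtCoh.Ab X)

/-- The part of `Q` supported in `Z`. -/
def part (Z : Thin X) : EtCoh.Ab X :=
  kernel (EtDual.unitApp (compl Z).ι Q)

theorem part_comp {Z Z' : Thin X} (h : Z ≤ Z') :
    kernel.ι (EtDual.unitApp (compl Z).ι Q) ≫ EtDual.unitApp (compl Z').ι Q = 0 := by
  refine (GrothLib.EtSupp19.pull_map_eq_zero_iff (compl Z').ι _).1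
    (GrothLib.EtSupp19.pull_kernel_ι_eq_zero (compl Z').ι (compl Z).ι ?_ Q)
  rw [Scheme.Opens.range_ι, Scheme.Opens.range_ι]
  exact Set.compl_subset_compl.2 h

/-- The system of the parts with small support. -/
def diag : ULift.{u + 1} (Thin X) ⥤ EtCoh.Ab X where
  obj Z := part Q Z.down
  map {Z Z'} h := kernel.lift _ (kernel.ι _) (part_comp Q (ULift.down_le.mpr (leOfHom h)))
  map_id Z := equalizer.hom_ext (by simp [part])
  map_comp f g := equalizer.hom_ext (by simp [part])

/-- Its evident cocone. -/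
def cocone : Cocone (diag Q) where
  pt := Q
  ι :=
    { app := fun Z => kernel.ι _
      naturality := fun Z Z' h => by simp [diag, part] }

variable {Q}

/-- A section supported over `Z` lies in the part supported in `Z`. -/
theorem unitApp_eq_zero (Z : Thin X) (V : X.Etale) (s : EtCoh.sect Q V)
    (h : ∀ v ∈ EtShriek.sectSupp Q V s, V.hom.base v ∉ compl Z) :
    (EtDual.unitApp (compl Z).ι Q).hom.app (op V) s = 0 := by
  let f : V.left ⟶ X := V.hom
  let O : V.left.Opens := f ⁻¹ᵁ compl Z
  let g : opensObj V O ⟶ V := opensHom V O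
  have hg : Q.obj.map g.op s = 0 := by
    refine GrothLib.EtSite.section_eq_zero_of_germs _ _ _ fun Ω _ _ ξ t => ?_
    rw [germ_map]
    by_contra hne
    refine h _ ((GrothLib.EtBasicB.germ_ne_zero_iff ξ Q _ s).1 hne) ?_
    exact (t.left.base (default : Spec (CommRingCat.of Ω))).2
  refine injective_map_of_surjective' (G := (EtCoh.pull (compl Z).ι).obj Q)
    ((EtCoh.bc (compl Z).ι).map g) ?_ (Eq.trans ?_ (map_zero _).symm)
  · intro p
    have hp : f.base ((pullback.fst V.hom (compl Z).ι).base p) ∈ compl Z := by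
      have := congrArg (fun r => r.base p) (pullback.condition (f := V.hom) (g := (compl Z).ι))
      simp only [Scheme.Hom.comp_base, TopCat.comp_app] at this
      change V.hom.base _ ∈ compl Z
      rw [this]
      exact ((pullback.snd V.hom (compl Z).ι).base p).2
    obtain ⟨z, hz, -⟩ := Scheme.exists_preimage_of_isPullback (EtCoh.isPullback_bc_map (compl Z).ι g) p
      (⟨_, hp⟩ : O) rfl
    exact ⟨z, hz⟩
  · refine (NatTrans.naturality_apply (EtDual.unitApp (compl Z).ι Q).hom g.op s).symm.trans ?_
    rw [hg, map_zero]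

variable [AlgebraicGeometry.IsNoetherian X]

theorem isIso_desc
    (hQ : ∀ (Ω : Type u) [Field Ω] [IsSepClosed Ω] (ξ : Spec (CommRingCat.of Ω) ⟶ X),
      (∀ y, y ⤳ ξ.base (default : Spec (CommRingCat.of Ω)) → y = ξ.base (default : Spec (CommRingCat.of Ω))) →
        IsZero ((EtCoh.stalk ξ).obj Q)) :
    IsIso (colimit.desc (diag Q) (cocone Q)) := by
  classical
  let c := colimit.desc (diag Q) (cocone Q)
  have hfac : ∀ i, colimit.ι (diag Q) i ≫ c = kernel.ι _ := fun i => colimit.ι_desc _ _
  haveI : Mono c := by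
    haveI : Sheaf.IsLocallyInjective c := Sheaf.isLocallyInjective_iff_injective c |>.2 fun U => by
      rw [injective_iff_map_eq_zero]
      intro s hs
      refine GrothLib.EtSite.section_eq_zero_of_germs _ U.unop s fun Ω _ _ η t => ?_
      obtain ⟨_, ⟨A, hA, rfl⟩, hxA, -⟩ := U.unop.left.isBasis_affineOpens.exists_subset_of_mem_open
        (Set.mem_univ (t.left.base (default : Spec (CommRingCat.of Ω)))) isOpen_univ
      let A₀ : U.unop.left.Opens := A
      let V := opensObj U.unop A₀
      let g : V ⟶ U.unop := opensHom U.unop A₀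
      obtain ⟨t', ht', -⟩ := GrothLib.EtBasicB.exists_fib_lift η g t
        (⟨_, hxA⟩ : A₀) rfl
      rw [← ht', ← germ_map]
      have hV : Qcqs V :=
        haveI : IsAffine A₀.toScheme := hA
        ⟨(isCompact_iff_compactSpace.1 hA.isCompact :), (inferInstance : QuasiSeparatedSpace ↥A₀.toScheme)⟩
      obtain ⟨i, a, ha⟩ := (ColimCoh.sections_colimit cov_h1 cov_h2 (diag Q ⋙ (E X).functor)
        (isColimitOfPreserves (E X).functor (colimit.isColimit (diag Q))) (U := up V) hV).1
        ((colimit (diag Q)).obj.map g.op s)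
      replace ha : (colimit.ι (diag Q) i).hom.app (op V) a = (colimit (diag Q)).obj.map g.op s := ha
      have h0 : (kernel.ι (EtDual.unitApp (compl i.down).ι Q)).hom.app (op V) a = 0 := by
        rw [← hfac i]
        change c.hom.app (op V) ((colimit.ι (diag Q) i).hom.app (op V) a) = 0
        rw [ha]
        refine (NatTrans.naturality_apply c.hom g.op s).trans ?_
        rw [hs, map_zero]
      have ha0 : a = 0 :=
        injective_app (kernel.ι (EtDual.unitApp (compl i.down).ι Q)) V (h0.trans (map_zero _).symm)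
      rw [← ha, ha0, map_zero, map_zero]
    exact Sheaf.mono_of_isLocallyInjective c
  haveI : Epi c := by
    haveI : Sheaf.IsLocallySurjective c := by
      refine ⟨fun {U} s => ?_⟩
      rw [mem_topology_iff]
      intro x
      obtain ⟨_, ⟨A, hA, rfl⟩, hxA, -⟩ := U.left.isBasis_affineOpens.exists_subset_of_mem_open
        (Set.mem_univ x) isOpen_univ
      let A₀ : U.left.Opens := A
      let V := opensObj U A₀
      let g : V ⟶ U := opensHom U A₀
      haveI : IsAffine V.left := (hA : IsAffine A₀.toScheme)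
      haveI : AlgebraicGeometry.IsNoetherian V.left := by
        let f : V.left ⟶ X := V.hom
        haveI : Etale f := V.prop
        haveI : IsLocallyNoetherian V.left := LocallyOfFiniteType.isLocallyNoetherian f
        exact {}
      let s₁ : EtCoh.sect Q V := Q.obj.map g.op s
      let S : Set V.left := EtShriek.sectSupp Q V s₁
      have hS : IsClosed S := GrothLib.EtBasicB.isClosed_sectSupp Q V s₁
      haveI : TopologicalSpace.NoetherianSpace S := inferInstance
      obtain ⟨T, hTf, hTc, hTi, hTeq⟩ := TopologicalSpace.NoetherianSpace.exists_finite_set_isClosed_irreducible hS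
      let f : V.left ⟶ X := V.hom
      have hnmax : ∀ v ∈ S, ∃ y : X, y ⤳ f.base v ∧ y ≠ f.base v := fun v hv => by
        by_contra! hc
        obtain ⟨t, ht⟩ := exists_fib (gpt (V.hom.base v)) (U := V) v (gpt_default _).symm
        refine (GrothLib.EtBasicB.germ_ne_zero_iff _ Q t s₁).2 (ht.symm ▸ hv)
          (@Subsingleton.elim _ (AddCommGrpCat.subsingleton_of_isZero (hQ _ (gpt (V.hom.base v)) ?_)) _ _)
        exact (congrArg (fun p : X => ∀ y, y ⤳ p → y = p) (gpt_default (V.hom.base v))).mpr hc
      have hgen : ∀ t : T, ∃ η : V.left, IsGenericPoint η (t : Set V.left) := fun t =>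
        QuasiSober.sober (hTi _ t.2) (hTc _ t.2)
      choose η hη using hgen
      haveI : Finite T := hTf.to_subtype
      let Z : Thin X := ⟨⟨⋃ t : T, closure {f.base (η t)}, isClosed_iUnion_of_finite fun t => isClosed_closure⟩, by
        intro p hp
        obtain ⟨t, ht⟩ := Set.mem_iUnion.1 hp
        obtain ⟨y, hy, hne⟩ := hnmax (η t) (hTeq ▸ Set.mem_sUnion.2 ⟨_, t.2, (hη t).mem⟩)
        have hs : f.base (η t) ⤳ p := specializes_iff_mem_closure.2 ht
        by_cases he : y = p
        · refine ⟨f.base (η t), hs, fun h => hne (he.trans h.symm)⟩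
        · exact ⟨y, hy.trans hs, he⟩⟩
      have hu : (EtDual.unitApp (compl Z).ι Q).hom.app (op V) s₁ = 0 := by
        refine unitApp_eq_zero Z V s₁ fun v hv hmem => hmem ?_
        obtain ⟨t, ht, hvt⟩ := Set.mem_sUnion.1 (hTeq ▸ hv : v ∈ ⋃₀ T)
        exact Set.mem_iUnion.2 ⟨⟨t, ht⟩, specializes_iff_mem_closure.1 (((hη ⟨t, ht⟩).specializes hvt).map f.continuous)⟩
      have h0 : ofSect s₁ ≫ EtDual.unitApp (compl Z).ι Q = 0 := ZV_ext (by
        refine (congrArg ((EtDual.unitApp (compl Z).ι Q).hom.app (op V)) (ofSect_gen s₁)).trans ?_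
        exact hu)
      refine ⟨V, g, (⟨x, hxA⟩ : A₀), ⟨(colimit.ι (diag Q) ⟨Z⟩).hom.app (op V)
        ((kernel.lift _ _ h0).hom.app (op V) (gen V)), ?_⟩, rfl⟩
      refine Eq.trans ?_ (ofSect_gen s₁)
      conv_rhs => rw [← kernel.lift_ι _ _ h0, ← hfac ⟨Z⟩]
      rfl
    exact Sheaf.epi_of_isLocallySurjective c
  exact isIso_of_mono_of_epi c

end GrothLib.QDim18
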